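import Groth.Agent.PurePairDesc.Main
import Groth.Agent.S0549
import Groth.Prelude.Def_SGA2

/-!
# The punctured spectrum is not pure in dimension at most one
-/

set_option autoImplicit false
set_option backward.isDefEq.respectTransparency false
set_option linter.style.haveILetI false

universe u

open AlgebraicGeometry CategoryTheory CategoryTheory.Limits TopologicalSpace Opposite IsLocalRing TensorProduct
open Polynomial

noncomputable section

namespace Groth.Agent.PurityCodimLib

/-- Purity gives an equivalence for the inclusion of the punctured spectrum. -/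
theorem isEquivalence_restrict_punctured {S : Type u} [CommRing S] [IsLocalRing S]
    (hpure : SGA2.IsPurePair (Spec (CommRingCat.of S)) (FEt.puncturedSpec S)) :
    (FEt.restrict (FEt.puncturedSpec S).ι).IsEquivalence := by
  let X := Spec (CommRingCat.of S)
  let U := FEt.puncturedSpec S
  haveI : (FEt.restrict (X.homOfLE (inf_le_left : (⊤ : X.Opens) ⊓ U ≤ ⊤))).IsEquivalence := hpure ⊤
  haveI : IsIso (⊤ : X.Opens).ι := inferInstanceAs (IsIso X.topIso.hom)
  haveI : (FEt.restrict (⊤ : X.Opens).ι).IsEquivalence := PurePairDesc.isEquivalence_restrict_of_isIso _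
  have hi := PropPi1.restrictCompIso (X.homOfLE (inf_le_left : (⊤ : X.Opens) ⊓ U ≤ ⊤)) (⊤ : X.Opens).ι
  rw [Scheme.homOfLE_ι] at hi
  exact (PurePairDesc.isEquivalence_restrict_iff ((⊤ : X.Opens) ⊓ U).ι U (by simp [X, U])).1
    (Functor.isEquivalence_of_iso hi.symm)

theorem not_isPurePair_of_maximalIdeal_eq_nilradical {S : Type u} [CommRing S] [IsLocalRing S]
    (hS : ∀ p : PrimeSpectrum S, p.asIdeal = maximalIdeal S) :
    ¬ SGA2.IsPurePair (Spec (CommRingCat.of S)) (FEt.puncturedSpec S) := fun hpure => by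
  let X := Spec (CommRingCat.of S)
  let U := FEt.puncturedSpec S
  haveI := isEquivalence_restrict_punctured hpure
  haveI : IsEmpty (U : Scheme.{u}) := ⟨fun x => x.2 (PrimeSpectrum.ext (hS x.1))⟩
  let one : FEt.Cat X := MorphismProperty.Over.mk ⊤ (𝟙 X) ⟨inferInstance, inferInstance⟩
  haveI : IsEmpty (⊥_ Scheme.{u} : Scheme.{u}) := inferInstance
  haveI : IsClosedImmersion (initial.to X) := inferInstance
  haveI : IsFinite (initial.to X) := inferInstance
  haveI : Etale (initial.to X) := inferInstance
  let zero : FEt.Cat X := MorphismProperty.Over.mk ⊤ (initial.to X) ⟨inferInstance, inferInstance⟩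
  have hempty : ∀ Z : FEt.Cat (U : Scheme.{u}), IsEmpty Z.left := fun Z => Function.isEmpty (show Z.left → (U : Scheme.{u}) from Z.hom.base)
  let a := (FEt.restrict U.ι).obj one
  let b := (FEt.restrict U.ι).obj zero
  haveI := hempty a
  let f : a.left ⟶ b.left := isInitialOfIsEmpty.to _
  let m : a ⟶ b := MorphismProperty.Over.homMk f (isInitialOfIsEmpty.hom_ext _ _)
  let n := (FEt.restrict U.ι).preimage m
  exact IsEmpty.false ((show X ⟶ (⊥_ Scheme.{u}) from n.left) (closedPoint S))

theorem false_of_reduced_quotient {D : Type u} [CommRing D] (π : D) (hreg : ∀ z : D, π * z = 0 → z = 0)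
    (h1 : ¬ π ∣ 1) (hred : ∀ z : D, π ∣ z ^ 2 → π ∣ z) :
    ∀ (k : ℕ) (d : D), d ^ 2 + π ^ (k + 1) * d + π ^ (2 * k + 1) ≠ 0 := by
  intro k
  induction k with
  | zero =>
    intro d hd
    obtain ⟨e, rfl⟩ := hred d ⟨-(d + 1), by linear_combination hd⟩
    refine h1 ⟨-(e ^ 2 + e), ?_⟩
    have := hreg (π * e ^ 2 + π * e + 1) (by linear_combination hd)
    linear_combination this
  | succ k ih =>
    intro d hd
    obtain ⟨e, rfl⟩ := hred d ⟨-(π ^ (k + 1) * d + π ^ (2 * k + 2)), by linear_combination hd⟩
    refine ih e (hreg _ (hreg _ ?_))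
    linear_combination hd

theorem not_isPurePair_of_dvr {S : Type u} [CommRing S] [IsDomain S] [IsDiscreteValuationRing S] :
    ¬ SGA2.IsPurePair (Spec (CommRingCat.of S)) (FEt.puncturedSpec S) := fun hpure => by
  classical
  obtain ⟨π, hπ⟩ := IsDiscreteValuationRing.exists_irreducible S
  let K := FractionRing S
  let f : S[X] := X ^ 2 + C π * X + C π
  have hdeg : f.natDegree = 2 := by
    show (X ^ 2 + C π * X + C π).natDegree = 2
    compute_degree!
  have hfm : f.Monic := by
    show f.coeff f.natDegree = 1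
    rw [hdeg]
    simp [f]
  have heis : f.IsEisensteinAt (maximalIdeal S) := by
    refine hfm.isEisensteinAt_of_mem_of_notMem (IsLocalRing.maximalIdeal.isMaximal S).ne_top (fun {i} hi => ?_) ?_
    · rw [hdeg] at hi
      rw [hπ.maximalIdeal_eq, Ideal.mem_span_singleton]
      interval_cases i <;> simp [f, Polynomial.coeff_X_pow, Polynomial.coeff_C]
    · rw [hπ.maximalIdeal_eq, Ideal.span_singleton_pow, Ideal.mem_span_singleton]
      simp only [f, coeff_add, coeff_X_pow, coeff_C_mul, coeff_X_zero, coeff_C_zero]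
      norm_num
      intro h
      obtain ⟨c, hc⟩ := h
      exact hπ.not_isUnit (IsUnit.of_mul_eq_one c (mul_left_cancel₀ hπ.ne_zero (by linear_combination -hc)))
  have hirr : Irreducible (f.map (algebraMap S K)) :=
    (hfm.irreducible_iff_irreducible_map_fraction_map).1
      (heis.irreducible (IsLocalRing.maximalIdeal.isMaximal S).isPrime hfm.isPrimitive (by omega))
  have hsep : (f.map (algebraMap S K)).Separable := by
    refine (separable_iff_derivative_ne_zero hirr).2 fun h => ?_
    have := congrArg (fun p : K[X] => p.coeff 0) h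
    simp [f, Polynomial.coeff_derivative, Polynomial.coeff_X_pow, Polynomial.coeff_C] at this
    exact hπ.ne_zero this
  haveI : Fact (Irreducible (f.map (algebraMap S K))) := ⟨hirr⟩
  let L := AdjoinRoot (f.map (algebraMap S K))
  haveI : Module.Finite K L := (hfm.map _).finite_adjoinRoot
  haveI : Algebra.IsSeparable K L := by
    have hgen : IntermediateField.adjoin K {AdjoinRoot.root (f.map (algebraMap S K))} = ⊤ := by
      apply IntermediateField.toSubalgebra_injective
      rw [IntermediateField.top_toSubalgebra, eq_top_iff, ← AdjoinRoot.adjoinRoot_eq_top]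
      exact IntermediateField.algebra_adjoin_le_adjoin _ _
    have hs : IsSeparable K (AdjoinRoot.root (f.map (algebraMap S K))) :=
      hsep.of_dvd (minpoly.dvd K _ (by rw [AdjoinRoot.aeval_eq, AdjoinRoot.mk_self]))
    haveI := (IntermediateField.isSeparable_adjoin_simple_iff_isSeparable K L).2 hs
    exact (AlgEquiv.Algebra.isSeparable_iff
      ((IntermediateField.equivOfEq hgen).trans IntermediateField.topEquiv)).1 inferInstance
  haveI : Algebra.FormallyEtale K L := Algebra.FormallyEtale.of_isSeparable K L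
  haveI : Algebra.Etale K L := ⟨inferInstance, Algebra.FinitePresentation.of_finiteType.1 inferInstance⟩
  -- the punctured spectrum is the generic point
  haveI : IsLocalization.Away π K := by
    refine IsLocalization.Away.mk π ?_ (fun z => ?_) fun a b h => ⟨0, by rw [IsFractionRing.injective S K h]⟩
    · exact (IsUnit.mk0 _ ((map_ne_zero_iff _ (IsFractionRing.injective S K)).2 hπ.ne_zero))
    · obtain ⟨a, b, hb, rfl⟩ := IsFractionRing.div_surjective (A := S) z
      obtain ⟨n, v, rfl⟩ := IsDiscreteValuationRing.eq_unit_mul_pow_irreducible (nonZeroDivisors.ne_zero hb) hπ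
      refine ⟨n, a * ↑v⁻¹, ?_⟩
      have h0 : algebraMap S K (↑v * π ^ n) ≠ 0 := IsFractionRing.to_map_ne_zero_of_mem_nonZeroDivisors hb
      rw [div_mul_eq_mul_div, div_eq_iff h0, ← map_pow, ← map_mul, ← map_mul]
      congr 1
      rw [mul_assoc a, ← mul_assoc (↑v⁻¹ : S), Units.inv_mul, one_mul]
  let U := FEt.puncturedSpec S
  let j := Spec.map (CommRingCat.ofHom (algebraMap S K))
  haveI : IsOpenImmersion j := IsOpenImmersion.of_isLocalization π
  have hj : j.opensRange = U := by
    refine Opens.ext ?_
    rw [Scheme.Hom.coe_opensRange]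
    show Set.range (PrimeSpectrum.comap (algebraMap S K)) = _
    rw [PrimeSpectrum.localization_away_comap_range K π]
    ext p
    show π ∉ p.asIdeal ↔ ¬ p = closedPoint S
    rw [PrimeSpectrum.ext_iff]
    refine ⟨fun h he => h (he ▸ ?_), fun h hπp => h (((IsLocalRing.maximalIdeal.isMaximal S).eq_of_le p.2.ne_top ?_).symm)⟩
    · exact hπ.not_isUnit
    · rw [hπ.maximalIdeal_eq, Ideal.span_singleton_le_iff_mem]; exact hπp
  haveI : (FEt.restrict j).IsEquivalence :=
    (PurePairDesc.isEquivalence_restrict_iff j U hj).2 (isEquivalence_restrict_punctured hpure)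
  let E : FEt.Cat (Spec (CommRingCat.of K)) := MorphismProperty.Over.mk ⊤
    (Spec.map (CommRingCat.ofHom (algebraMap K L)))
    ⟨(IsFinite.SpecMap_iff _).2 (RingHom.finite_algebraMap.2 inferInstance),
      (HasRingHomProperty.Spec_iff (P := @Etale)).2 (RingHom.etale_algebraMap.2 inferInstance)⟩
  let Y := (FEt.restrict j).objPreimage E
  let φ := (FEt.restrict j).objObjPreimageIso E
  let y : Y.left ⟶ Spec (CommRingCat.of S) := Y.hom
  haveI : IsFinite y := Y.prop.1
  haveI : Etale y := Y.prop.2
  haveI : IsAffine Y.left := isAffine_of_isAffineHom y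
  let φD := Spec.preimage (Y.left.isoSpec.inv ≫ y)
  have hφ : Spec.map φD = Y.left.isoSpec.inv ≫ y := Spec.map_preimage _
  let D : Type u := Γ(Y.left, ⊤)
  letI : Algebra S D := φD.hom.toAlgebra
  haveI : Algebra.Etale S D :=
    RingHom.etale_algebraMap.1 ((HasRingHomProperty.Spec_iff (P := @Etale) (φ := φD)).1 (hφ ▸ inferInstance))
  haveI : Module.Finite S D :=
    RingHom.finite_algebraMap.1 ((IsFinite.SpecMap_iff φD).1 (hφ ▸ inferInstance))
  -- the isomorphism of algebras over the fraction field
  let e : Spec (CommRingCat.of (K ⊗[S] D)) ≅ Spec (CommRingCat.of L) :=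
    (pullbackSpecIso S K D).symm ≪≫ pullbackSymmetry _ _ ≪≫
      asIso (pullback.map (Spec.map φD) j y j Y.left.isoSpec.inv (𝟙 _) (𝟙 _) (by simp [hφ]) (by simp)) ≪≫
      (MorphismProperty.Over.forget _ _ _ ⋙ Over.forget _).mapIso φ
  have he : e.hom ≫ Spec.map (CommRingCat.ofHom (algebraMap K L)) =
      Spec.map (CommRingCat.ofHom (algebraMap K (K ⊗[S] D))) := by
    have h1 : φ.hom.left ≫ Spec.map (CommRingCat.ofHom (algebraMap K L)) = pullback.snd y j :=
      MorphismProperty.Over.w φ.hom
    show ((pullbackSpecIso S K D).inv ≫ (pullbackSymmetry _ _).hom ≫ _ ≫ φ.hom.left) ≫ _ = _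
    simp only [Category.assoc, h1]
    refine Eq.trans ?_ (pullbackSpecIso_inv_fst S K D)
    refine congrArg ((pullbackSpecIso S K D).inv ≫ ·) ?_
    refine (congrArg ((pullbackSymmetry _ _).hom ≫ ·) (pullback.lift_snd _ _ _)).trans ?_
    rw [Category.comp_id]
    exact pullbackSymmetry_hom_comp_snd _ _
  let ψ : CommRingCat.of L ⟶ CommRingCat.of (K ⊗[S] D) := Spec.preimage e.hom
  have hψ : CommRingCat.ofHom (algebraMap K L) ≫ ψ = CommRingCat.ofHom (algebraMap K (K ⊗[S] D)) := by
    apply Spec.map_injective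
    rw [Spec.map_comp, Spec.map_preimage, he]
  haveI : Nontrivial (K ⊗[S] D) := by
    let ψ' : CommRingCat.of (K ⊗[S] D) ⟶ CommRingCat.of L := Spec.preimage e.inv
    exact RingHom.domain_nontrivial ψ'.hom
  haveI : Nontrivial D := by
    by_contra h
    haveI := not_nontrivial_iff_subsingleton.1 h
    exact false_of_nontrivial_of_subsingleton (K ⊗[S] D)
  let x : K ⊗[S] D := ψ.hom (AdjoinRoot.root (f.map (algebraMap S K)))
  let π' : D := algebraMap S D π
  have hx : x ^ 2 + algebraMap S (K ⊗[S] D) π * x + algebraMap S (K ⊗[S] D) π = 0 := by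
    have hr : Polynomial.aeval (AdjoinRoot.root (f.map (algebraMap S K))) (f.map (algebraMap S K)) = 0 := by
      rw [AdjoinRoot.aeval_eq, AdjoinRoot.mk_self]
    simp only [f, Polynomial.map_add, Polynomial.map_mul, Polynomial.map_pow, Polynomial.map_X, Polynomial.map_C,
      map_add, map_mul, map_pow, aeval_X, aeval_C] at hr
    have h2 := congrArg ψ.hom hr
    have hc : ψ.hom (algebraMap K L (algebraMap S K π)) = algebraMap S (K ⊗[S] D) π := by
      rw [IsScalarTower.algebraMap_apply S K (K ⊗[S] D)]
      exact congr($hψ (algebraMap S K π))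
    rw [map_add, map_add, map_mul, map_pow, map_zero, hc] at h2
    exact h2
  letI := (Algebra.TensorProduct.rightAlgebra : Algebra D (K ⊗[S] D))
  haveI : IsLocalization.Away π' (K ⊗[S] D) := by
    haveI : Algebra.IsPushout S K D (K ⊗[S] D) := inferInstance
    have h := (Algebra.isLocalization_iff_isPushout (R := S) (T := D) (B := K ⊗[S] D) (Submonoid.powers π) K).2
      (Algebra.IsPushout.symm inferInstance)
    rwa [Algebra.algebraMapSubmonoid, Submonoid.map_powers] at h
  obtain ⟨k, d, hd⟩ := IsLocalization.Away.surj π' x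
  have hreg : ∀ z : D, π' * z = 0 → z = 0 := fun z hz => by
    have hr : IsSMulRegular D π := Module.Flat.isSMulRegular_of_isRegular (IsRegular.of_ne_zero hπ.ne_zero)
    exact hr (show π • z = π • (0 : D) by rw [smul_zero, Algebra.smul_def]; exact hz)
  have hπd : algebraMap D (K ⊗[S] D) π' = algebraMap S (K ⊗[S] D) π :=
    (IsScalarTower.algebraMap_apply S D (K ⊗[S] D) π).symm
  have hinj : Function.Injective (algebraMap D (K ⊗[S] D)) := by
    refine IsLocalization.injective (M := Submonoid.powers π') (K ⊗[S] D) ?_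
    rintro _ ⟨n, rfl⟩
    exact pow_mem (mem_nonZeroDivisors_iff_right.2 fun z hz => hreg z (by rw [mul_comm]; exact hz)) n
  have h1 : ¬ π' ∣ 1 := by
    rintro ⟨c, hc⟩
    haveI : Nontrivial D := inferInstance
    have htop : (⊤ : Submodule S D) ≤ maximalIdeal S • (⊤ : Submodule S D) := fun z _ => by
      have : z = π • (c * z) := by rw [Algebra.smul_def, ← mul_assoc]; show z = π' * c * z; rw [← hc, one_mul]
      rw [this]
      exact Submodule.smul_mem_smul hπ.not_isUnit Submodule.mem_top
    have := Submodule.eq_bot_of_le_smul_of_le_jacobson_bot (maximalIdeal S) ⊤ Module.Finite.fg_top htop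
      (IsLocalRing.maximalIdeal_le_jacobson _)
    exact zero_ne_one (α := D) ((Submodule.mem_bot S).1 (this ▸ Submodule.mem_top (x := (1 : D)))).symm
  have hred : ∀ z : D, π' ∣ z ^ 2 → π' ∣ z := by
    intro z hz
    letI : Field (S ⧸ maximalIdeal S) := Ideal.Quotient.field _
    let J : Ideal D := (maximalIdeal S).map (algebraMap S D)
    have hJ : J = Ideal.span {π'} :=
      (congrArg (Ideal.map _) hπ.maximalIdeal_eq).trans (by rw [Ideal.map_span, Set.image_singleton])
    haveI : Algebra.FormallyUnramified S (D ⧸ J) :=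
      Algebra.FormallyUnramified.of_surjective (Ideal.Quotient.mkₐ S J) Ideal.Quotient.mk_surjective
    haveI : Algebra.FormallyUnramified (S ⧸ maximalIdeal S) (D ⧸ J) :=
      Algebra.FormallyUnramified.of_restrictScalars S _ _
    haveI : Module.Finite (S ⧸ maximalIdeal S) (D ⧸ J) := Module.Finite.of_restrictScalars_finite S _ _
    haveI := Algebra.FormallyUnramified.isReduced_of_field (S ⧸ maximalIdeal S) (D ⧸ J)
    rw [← Ideal.mem_span_singleton, ← hJ, ← Ideal.Quotient.eq_zero_iff_mem] at hz ⊢
    rw [map_pow] at hz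
    exact (IsNilpotent.eq_zero ⟨2, hz⟩)
  refine false_of_reduced_quotient π' hreg h1 hred k d (hinj ?_)
  rw [map_zero, map_add, map_add, map_mul, map_pow, map_pow, map_pow, ← hd, hπd]
  have := congrArg (· * algebraMap S (K ⊗[S] D) π ^ (2 * k)) hx
  simp only [zero_mul] at this
  rw [← this]
  ring

end Groth.Agent.PurityCodimLib
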