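import Groth.Agent.PurityCodimLib.Sections
import Groth.Agent.PurityCodimLib.LowDim
import Groth.Agent.PurityLib.Global
import Groth.Agent.PurityLib.Normal
import Groth.Agent.SerreLib.Normal
import Groth.Agent.RatDense.Hartogs
import Groth.Agent.FreeQuotEt.Normal
import Groth.Agent.NormalTensor.BranchComp
import Groth.Agent.Hensel.Local
import Groth.Agent.DevLib.Irred
import Groth.Agent.EtLocalLib.Completion

/-!
# The height of minimal ramified primes over a base which is pure in high codimension
-/

set_option autoImplicit false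
set_option backward.isDefEq.respectTransparency false
set_option linter.style.haveILetI false

universe u

open IsLocalRing TensorProduct
open Groth.Agent.PurityLib (RegPair)

noncomputable section

namespace Groth.Agent.PurityCodimLib

set_option maxHeartbeats 1000000 in
/-- The local statement, over a normal local domain with a regular pair and a flat henselian extension with
the same residue field and pure punctured spectrum. -/
theorem isUnramifiedAt_of_isPurePair {R S : Type u} [CommRing R] [IsDomain R] [IsLocalRing R] [IsNoetherianRing R]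
    [IsIntegrallyClosed R] [CommRing S] [IsNoetherianRing S] [HenselianLocalRing S] [Algebra R S] [Module.Flat R S]
    [IsLocalHom (algebraMap R S)] (hmS : maximalIdeal S = (maximalIdeal R).map (algebraMap R S))
    (hres : Function.Bijective (ResidueField.map (algebraMap R S)))
    (hp : SGA2.IsPurePair (AlgebraicGeometry.Spec (CommRingCat.of S)) (FEt.puncturedSpec S))
    {t g : R} (htm : t ∈ maximalIdeal R) (hgm : g ∈ maximalIdeal R) (htne : t ≠ 0) (hgne : g ≠ 0) (hR : RegPair R t g)
    (B' : Type u) [CommRing B'] [IsDomain B'] [IsIntegrallyClosed B'] [Algebra R B'] [Module.Finite R B']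
    (hinj' : Function.Injective (algebraMap R B')) (q1 : Ideal B') [hq1 : q1.IsPrime]
    (hq1R : q1.comap (algebraMap R B') = maximalIdeal R)
    (hlow : ∀ (Q : Ideal B') [Q.IsPrime], Q < q1 → Algebra.IsUnramifiedAt R Q) :
    Algebra.IsUnramifiedAt R q1 := by
  classical
  haveI : FaithfulSMul R B' := (faithfulSMul_iff_algebraMap_injective R B').2 hinj'
  have hS : RegPair S (algebraMap R S t) (algebraMap R S g) := by
    have := PurityLib.regPair_of_flat (M := S) hR
    refine ⟨fun m hm => this.1 m (by rw [Algebra.smul_def]; exact hm), fun m n hmn => ?_⟩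
    obtain ⟨w, hw⟩ := this.2 m n (by rw [Algebra.smul_def, Algebra.smul_def]; exact hmn)
    exact ⟨w, hw.trans (Algebra.smul_def _ _)⟩
  -- the completion
  letI : Algebra B' (S ⊗[R] B') := Algebra.TensorProduct.rightAlgebra
  haveI : Algebra.IsPushout R B' S (S ⊗[R] B') := Algebra.IsPushout.symm inferInstance
  haveI : Module.Flat B' (S ⊗[R] B') := Module.Flat.isBaseChange R B' S (S ⊗[R] B') Algebra.IsPushout.out
  obtain ⟨J, _, Cj, _, hloc, ⟨e⟩⟩ := Hensel.exists_pi_local_of_henselian S (S ⊗[R] B')
  haveI := hloc
  -- a point over `q1` and the closed point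
  let κ := ResidueField (Localization.AtPrime q1)
  have hkill : ∀ r ∈ maximalIdeal R, algebraMap R κ r = 0 := fun r hr => by
    rw [IsScalarTower.algebraMap_apply R (Localization.AtPrime q1) κ]
    refine (IsLocalRing.residue_eq_zero_iff _).2 ?_
    rw [IsScalarTower.algebraMap_apply R B' (Localization.AtPrime q1), IsLocalization.AtPrime.to_map_mem_maximal_iff _ q1]
    rw [← hq1R] at hr
    exact hr
  let er : ResidueField R ≃+* ResidueField S := RingEquiv.ofBijective _ hres
  let ρ : ResidueField R →+* κ := Ideal.Quotient.lift (maximalIdeal R) (algebraMap R κ) hkill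
  let aS : S →ₐ[R] κ :=
    { toRingHom := (ρ.comp er.symm.toRingHom).comp (residue S)
      commutes' := fun r => by
        show ρ (er.symm (residue S (algebraMap R S r))) = _
        rw [show residue S (algebraMap R S r) = er (residue R r) from rfl, RingEquiv.symm_apply_apply]
        rfl }
  let ψ : (S ⊗[R] B') →ₐ[R] κ := Algebra.TensorProduct.lift aS (IsScalarTower.toAlgHom R B' κ) fun _ _ => Commute.all _ _
  have hψB : ∀ b : B', ψ (algebraMap B' (S ⊗[R] B') b) = algebraMap B' κ b := fun b => by
    show ψ (1 ⊗ₜ b) = _
    rw [Algebra.TensorProduct.lift_tmul, map_one, one_mul]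
    rfl
  obtain ⟨j, hj⟩ : ∃ j, ψ (e.symm (Pi.single j 1)) ≠ 0 := by
    by_contra hall
    push Not at hall
    have h1 : e.symm (∑ j, Pi.single j 1) = 1 := by
      rw [Finset.univ_sum_single (fun j => (1 : Cj j))]
      exact map_one e.symm
    have := congrArg ψ h1
    rw [map_sum, map_sum, Finset.sum_eq_zero fun j _ => hall j, map_one] at this
    exact zero_ne_one this
  let C := Cj j
  let ε : (S ⊗[R] B') := e.symm (Pi.single j 1)
  let π : (S ⊗[R] B') →+* C := (Pi.evalRingHom Cj j).comp e.toRingHom
  letI : Algebra (S ⊗[R] B') C := π.toAlgebra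
  letI : Algebra S C := (π.comp (algebraMap S (S ⊗[R] B'))).toAlgebra
  haveI : IsScalarTower S (S ⊗[R] B') C := IsScalarTower.of_algebraMap_eq' rfl
  letI : Algebra B' C := (π.comp (algebraMap B' (S ⊗[R] B'))).toAlgebra
  haveI : IsScalarTower B' (S ⊗[R] B') C := IsScalarTower.of_algebraMap_eq' rfl
  have hπs : Function.Surjective π := fun c => ⟨e.symm (Pi.single j c), by
    show e (e.symm (Pi.single j c)) j = c
    rw [RingEquiv.apply_symm_apply, Pi.single_eq_same]⟩
  have hεe : e ε = Pi.single j 1 := e.apply_symm_apply _
  have hεid : IsIdempotentElem ε := e.injective (by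
    rw [map_mul, hεe, ← Pi.single_mul, mul_one])
  have hπeq : ∀ x y, π x = π y ↔ ε * x = ε * y := fun x y => by
    rw [← e.injective.eq_iff (a := ε * x), map_mul, map_mul, hεe]
    refine ⟨fun h => funext fun k => ?_, fun h => ?_⟩
    · rcases eq_or_ne k j with rfl | hk
      · simp only [Pi.mul_apply, Pi.single_eq_same, one_mul]; exact h
      · simp [Pi.single_eq_of_ne hk]
    · have := congrFun h j
      simp only [Pi.mul_apply, Pi.single_eq_same, one_mul] at this
      exact this
  haveI : IsLocalization.Away ε C := IsLocalization.away_of_isIdempotentElem_of_mul hεid hπeq hπs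
  haveI : Module.Flat (S ⊗[R] B') C := IsLocalization.flat C (Submonoid.powers ε)
  haveI : Module.Flat B' C := Module.Flat.trans B' (S ⊗[R] B') C
  haveI : Module.Finite S C := Module.Finite.of_surjective (IsScalarTower.toAlgHom S (S ⊗[R] B') C).toLinearMap hπs
  -- the closed point of the component lies over `q1`
  have hCm : ∀ b : B', algebraMap B' C b ∈ maximalIdeal C ↔ b ∈ q1 := by
    let Q : Ideal (S ⊗[R] B') := RingHom.ker ψ.toRingHom
    haveI : Q.IsPrime := RingHom.ker_isPrime _
    have hker : RingHom.ker π ≤ Q := fun x hx => by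
      have h1 : ε * x = 0 := by simpa using (hπeq x 0).1 (hx.trans (map_zero π).symm)
      have h2 := congrArg ψ h1
      rw [map_mul, map_zero] at h2
      exact (mul_eq_zero.1 h2).resolve_left hj
    haveI : (Q.map π).IsPrime := Ideal.map_isPrime_of_surjective hπs hker
    have hQS : (Q.map π).comap (algebraMap S C) = maximalIdeal S := by
      refine (IsLocalRing.eq_maximalIdeal ?_)
      have hle : maximalIdeal S ≤ (Q.map π).comap (algebraMap S C) := by
        rw [hmS, Ideal.map_le_iff_le_comap]
        intro r hr
        refine Ideal.mem_map_of_mem π ?_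
        show ψ (algebraMap S (S ⊗[R] B') (algebraMap R S r)) = 0
        rw [← IsScalarTower.algebraMap_apply R S (S ⊗[R] B'), AlgHom.commutes, hkill r hr]
      rw [← (IsLocalRing.maximalIdeal.isMaximal S).eq_of_le (Ideal.IsPrime.ne_top inferInstance) hle]
      infer_instance
    haveI : ((Q.map π).comap (algebraMap S C)).IsMaximal := by rw [hQS]; infer_instance
    have hQm : Q.map π = maximalIdeal C :=
      IsLocalRing.eq_maximalIdeal (Ideal.isMaximal_of_isIntegral_of_isMaximal_comap (R := S) _ inferInstance)
    intro b
    have h1 : π (algebraMap B' (S ⊗[R] B') b) ∈ Q.map π ↔ algebraMap B' (S ⊗[R] B') b ∈ Q := by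
      constructor
      · intro h
        obtain ⟨z, hz, hzb⟩ := (Ideal.mem_map_iff_of_surjective π hπs).1 h
        have : algebraMap B' (S ⊗[R] B') b - z ∈ Q := hker (by rw [RingHom.mem_ker, map_sub, hzb, sub_self])
        simpa using add_mem this hz
      · exact Ideal.mem_map_of_mem π
    rw [hQm] at h1
    refine h1.trans ?_
    show ψ (algebraMap B' (S ⊗[R] B') b) = 0 ↔ _
    rw [hψB, IsScalarTower.algebraMap_apply B' (Localization.AtPrime q1) κ]
    exact (IsLocalRing.residue_eq_zero_iff _).trans (IsLocalization.AtPrime.to_map_mem_maximal_iff _ q1 b)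
  have hRC : ∀ r : R, algebraMap B' C (algebraMap R B' r) = algebraMap S C (algebraMap R S r) := fun r => by
    show π _ = π _
    rw [← IsScalarTower.algebraMap_apply R S (S ⊗[R] B'), ← IsScalarTower.algebraMap_apply R B' (S ⊗[R] B')]
  have hC : RegPair C (algebraMap R S t) (algebraMap R S g) := by
    have hB' : RegPair B' t g := PurityLib.regPair_of_normal htne hgne hR
    have hB'' : RegPair B' (algebraMap R B' t) (algebraMap R B' g) := by
      refine ⟨fun m hm => hB'.1 m (by rw [Algebra.smul_def]; exact hm), fun m n hmn => ?_⟩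
      obtain ⟨w, hw⟩ := hB'.2 m n (by rw [Algebra.smul_def, Algebra.smul_def]; exact hmn)
      exact ⟨w, hw.trans (Algebra.smul_def _ _)⟩
    have := PurityLib.regPair_of_flat (M := C) hB''
    refine ⟨fun m hm => this.1 m ?_, fun m n hmn => ?_⟩
    · rw [Algebra.smul_def, hRC, ← Algebra.smul_def]; exact hm
    · obtain ⟨w, hw⟩ := this.2 m n (by
        rw [Algebra.smul_def, Algebra.smul_def, hRC, hRC, ← Algebra.smul_def, ← Algebra.smul_def]; exact hmn)
      exact ⟨w, by rw [hw, Algebra.smul_def, hRC, ← Algebra.smul_def]⟩
  have hmSt : ∀ r ∈ maximalIdeal R, algebraMap R S r ∈ maximalIdeal S := fun r hr => hmS ▸ Ideal.mem_map_of_mem _ hr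
  -- étale off the closed point
  have het : ∀ Q : PrimeSpectrum C, Q.asIdeal.comap (algebraMap S C) ≠ maximalIdeal S →
      ∃ f ∉ Q.asIdeal, Algebra.Etale S (Localization.Away f) := by
    intro Q0 hQ0
    let Q' : Ideal B' := Q0.asIdeal.comap (algebraMap B' C)
    have hle : Q' ≤ q1 := fun b hb => (hCm b).1 (IsLocalRing.le_maximalIdeal Q0.2.ne_top hb)
    have hne : Q' ≠ q1 := fun h => hQ0 (by
      refine ((IsLocalRing.maximalIdeal.isMaximal S).eq_of_le (Ideal.IsPrime.ne_top inferInstance) ?_).symm
      rw [hmS, Ideal.map_le_iff_le_comap]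
      intro r hr
      show algebraMap S C (algebraMap R S r) ∈ Q0.asIdeal
      rw [← hRC]
      show algebraMap R B' r ∈ Q'
      rw [h]
      rw [← hq1R] at hr
      exact hr)
    haveI : Algebra.IsUnramifiedAt R Q' := hlow Q' (lt_of_le_of_ne hle hne)
    haveI := FreeQuotEt.isEtaleAt_of_unramified_normal R B' hinj' Q'
    haveI : Algebra.FinitePresentation R B' := Algebra.FinitePresentation.of_finiteType.1 inferInstance
    obtain ⟨f, hf, hfe⟩ := Algebra.exists_etale_of_isEtaleAt (R := R) Q'
    refine ⟨algebraMap B' C f, hf, ?_⟩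
    haveI := hfe
    let f' : (S ⊗[R] B') := algebraMap B' (S ⊗[R] B') f
    let Bf := Localization.Away f'
    haveI : Algebra.Etale S Bf := by
      letI := (Algebra.TensorProduct.map (AlgHom.id R S)
        (IsScalarTower.toAlgHom R B' (Localization.Away f))).toRingHom.toAlgebra
      haveI : IsLocalization.Away f' (S ⊗[R] Localization.Away f) :=
        DevLib.isLocalization_tensor f (Localization.Away f) S
      haveI : IsScalarTower S (S ⊗[R] B') (S ⊗[R] Localization.Away f) := .of_algebraMap_eq fun s => by
        simp [RingHom.algebraMap_toAlgebra]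
      exact Algebra.Etale.of_equiv
        ((IsLocalization.algEquiv (Submonoid.powers f') (S ⊗[R] Localization.Away f) Bf).restrictScalars S)
    let T := Localization.Away (algebraMap (S ⊗[R] B') Bf ε)
    haveI : Algebra.Etale S T := by
      haveI : Algebra.Etale Bf T := Algebra.Etale.of_isLocalizationAway (algebraMap (S ⊗[R] B') Bf ε)
      exact Algebra.Etale.comp S Bf T
    haveI : IsLocalization.Away (f' * ε) T := IsLocalization.Away.mul' Bf T f' ε
    haveI : IsLocalization.Away (algebraMap (S ⊗[R] B') C f') (Localization.Away (algebraMap B' C f)) := by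
      rw [← IsScalarTower.algebraMap_apply B' (S ⊗[R] B') C]; infer_instance
    haveI : IsLocalization.Away (f' * ε) (Localization.Away (algebraMap B' C f)) :=
      IsLocalization.Away.mul C (Localization.Away (algebraMap B' C f)) ε f'
    exact Algebra.Etale.of_equiv
      ((IsLocalization.algEquiv (Submonoid.powers (f' * ε)) T (Localization.Away (algebraMap B' C f))).restrictScalars S)
  haveI : Algebra.Etale S C := etale_of_isPurePair hp (hmSt t htm) (hmSt g hgm) hS C hC het
  haveI : IsLocalHom (algebraMap S C) := ⟨fun s hs => by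
    by_contra hns
    have : maximalIdeal C ≠ ⊤ := (IsLocalRing.maximalIdeal.isMaximal C).ne_top
    haveI : ((maximalIdeal C).comap (algebraMap S C)).IsMaximal :=
      Ideal.isMaximal_comap_of_isIntegral_of_isMaximal (maximalIdeal C)
    have h2 : s ∈ (maximalIdeal C).comap (algebraMap S C) := by
      rw [IsLocalRing.eq_maximalIdeal (inferInstance : ((maximalIdeal C).comap (algebraMap S C)).IsMaximal)]
      exact hns
    exact (IsLocalRing.mem_maximalIdeal _).1 h2 hs⟩
  -- descent along the faithfully flat map to the component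
  let L := Localization.AtPrime q1
  have hu : ∀ b : q1.primeCompl, IsUnit (algebraMap B' C b) := fun b =>
    IsLocalRing.notMem_maximalIdeal.1 fun h => b.2 ((hCm b).1 h)
  letI : Algebra L C := (IsLocalization.lift (M := q1.primeCompl) hu).toAlgebra
  haveI : IsScalarTower B' L C := IsScalarTower.of_algebraMap_eq fun b => (IsLocalization.lift_eq hu b).symm
  haveI : Module.Flat L C := (Module.flat_iff_of_isLocalization L q1.primeCompl C).2 inferInstance
  haveI : IsLocalHom (algebraMap L C) := ⟨fun z hz => by
    obtain ⟨b, s, rfl⟩ := IsLocalization.exists_mk'_eq q1.primeCompl z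
    rw [IsLocalization.AtPrime.isUnit_mk'_iff]
    intro hb
    have : algebraMap L C (IsLocalization.mk' L b s) * algebraMap B' C s = algebraMap B' C b := by
      rw [IsScalarTower.algebraMap_apply B' L C, ← map_mul, IsLocalization.mk'_spec, ← IsScalarTower.algebraMap_apply]
    exact (IsLocalRing.mem_maximalIdeal _).1 ((hCm b).2 hb) (this ▸ hz.mul (hu s))⟩
  haveI : Module.FaithfullyFlat L C := Module.FaithfullyFlat.of_flat_of_isLocalHom
  letI : Algebra R C := ((algebraMap S C).comp (algebraMap R S)).toAlgebra
  haveI : IsScalarTower R S C := IsScalarTower.of_algebraMap_eq' rfl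
  haveI : IsScalarTower R L C := IsScalarTower.of_algebraMap_eq fun r => by
    show algebraMap S C (algebraMap R S r) = _
    rw [← hRC, IsScalarTower.algebraMap_apply R B' L, ← IsScalarTower.algebraMap_apply B' L C]
  haveI : IsLocalHom (algebraMap R L) := ⟨fun r hr => by
    rw [IsScalarTower.algebraMap_apply R B' L, IsLocalization.AtPrime.isUnit_to_map_iff _ q1] at hr
    exact IsLocalRing.notMem_maximalIdeal.1 fun h => hr (show algebraMap R B' r ∈ q1 by rw [← hq1R] at h; exact h)⟩
  have hmap : (maximalIdeal R).map (algebraMap R L) = maximalIdeal L := by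
    refine le_antisymm (Ideal.map_le_iff_le_comap.2 fun r hr hu => hr (isUnit_of_map_unit (algebraMap R L) r hu)) fun z hz => ?_
    rw [← Ideal.comap_map_eq_self_of_faithfullyFlat (B := C) ((maximalIdeal R).map (algebraMap R L)),
      Ideal.mem_comap, Ideal.map_map, ← IsScalarTower.algebraMap_eq, IsScalarTower.algebraMap_eq R S C,
      ← Ideal.map_map, ← hmS, Algebra.FormallyUnramified.map_maximalIdeal (R := S) (S := C)]
    exact fun hu => hz (isUnit_of_map_unit (algebraMap L C) z hu)
  haveI : Algebra.EssFiniteType R L := Algebra.EssFiniteType.comp R B' L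
  haveI : IsLocalHom (algebraMap R C) := by
    rw [IsScalarTower.algebraMap_eq R L C]; infer_instance
  haveI : Algebra.IsSeparable (ResidueField R) (ResidueField C) := by
    letI := (IsLocalRing.ResidueField.map (algebraMap R S)).toAlgebra
    let e0 : ResidueField R ≃+* ResidueField S := RingEquiv.ofBijective _ hres
    refine Algebra.IsSeparable.of_equiv_equiv e0.symm (RingEquiv.refl (ResidueField C)) ?_
    ext z
    obtain ⟨w, rfl⟩ := e0.surjective z
    obtain ⟨r, rfl⟩ := IsLocalRing.residue_surjective w
    simp only [RingHom.coe_comp, RingEquiv.coe_toRingHom, Function.comp_apply, RingEquiv.symm_apply_apply, RingEquiv.refl_apply]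
    rfl
  haveI : IsScalarTower (ResidueField R) (ResidueField L) (ResidueField C) :=
    IsScalarTower.of_algebraMap_eq fun z => by
      obtain ⟨r, rfl⟩ := IsLocalRing.residue_surjective z
      show residue C (algebraMap R C r) = residue C (algebraMap L C (algebraMap R L r))
      rw [← IsScalarTower.algebraMap_apply]
  haveI : Algebra.IsSeparable (ResidueField R) (ResidueField L) :=
    Algebra.isSeparable_tower_bot_of_isSeparable (ResidueField R) (ResidueField L) (ResidueField C)
  haveI : Algebra.FormallyUnramified R L := Algebra.FormallyUnramified.of_map_maximalIdeal hmap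
  exact (inferInstance : Algebra.FormallyUnramified R L)

set_option maxHeartbeats 2000000 in
theorem isUnramified_of_purity (A : Type u) [CommRing A] [IsDomain A] [IsNoetherianRing A] [IsIntegrallyClosed A]
    (P : Ideal A) [P.IsPrime]
    (hp : SGA2.IsPurePair
      (AlgebraicGeometry.Spec (CommRingCat.of (AdicCompletion (maximalIdeal (Localization.AtPrime P)) (Localization.AtPrime P))))
      (FEt.puncturedSpec (AdicCompletion (maximalIdeal (Localization.AtPrime P)) (Localization.AtPrime P))))
    (B : Type u) [CommRing B] [IsDomain B] [IsIntegrallyClosed B] [Algebra A B] [Module.Finite A B]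
    (hinj : Function.Injective (algebraMap A B)) (q : Ideal B) [q.IsPrime] (hqP : q.under A = P)
    (hlow : ∀ (q' : Ideal B) [q'.IsPrime], q' < q → Algebra.IsUnramifiedAt A q') :
    Algebra.IsUnramifiedAt A q := by
  classical
  let R := Localization.AtPrime P
  let S := AdicCompletion (maximalIdeal R) R
  haveI : IsIntegrallyClosed R := isIntegrallyClosed_of_isLocalization R P.primeCompl P.primeCompl_le_nonZeroDivisors
  haveI : IsDomain R := IsLocalization.isDomain_of_le_nonZeroDivisors R P.primeCompl_le_nonZeroDivisors
  haveI : HenselianLocalRing S := NormalTensor.henselianLocalRing_completion R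
  haveI : Module.Flat R S := AdicCompletion.flat_of_isNoetherian _
  have hmS : maximalIdeal S = (maximalIdeal R).map (algebraMap R S) :=
    AdicCompletion.maximalIdeal_eq_map_of_fg (IsNoetherian.noetherian _)
  -- the dimension is at least two
  have hdim : 1 < ringKrullDim R := by
    by_contra hle
    push Not at hle
    by_cases hf : IsField R
    · refine not_isPurePair_of_maximalIdeal_eq_nilradical (fun p => ?_) hp
      have h0 : maximalIdeal S = ⊥ :=
        hmS.trans ((congrArg (Ideal.map _) (IsLocalRing.isField_iff_maximalIdeal_eq.1 hf)).trans Ideal.map_bot)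
      exact le_antisymm (IsLocalRing.le_maximalIdeal p.2.ne_top) (h0 ▸ bot_le)
    · haveI : Ring.KrullDimLE 1 R := Ring.krullDimLE_iff.2 (by exact_mod_cast hle)
      haveI : Ring.DimensionLEOne R := ⟨fun {p} hp0 hp =>
        (Ring.krullDimLE_one_iff_of_noZeroDivisors.1 inferInstance) p hp0 hp⟩
      haveI : IsDedekindDomain R := {}
      haveI : IsDiscreteValuationRing R := ((IsDiscreteValuationRing.TFAE R hf).out 2 0).1 (show IsDedekindDomain R from inferInstance)
      obtain ⟨hd, hv⟩ := (Groth.Agent.S0549.result R).1 ⟨inferInstance, inferInstance⟩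
      exact not_isPurePair_of_dvr (S := S) hp
  obtain ⟨t, htm, g, hgm, ht0, htg⟩ :=
    RatDense.exists_pair_of_two_le_depth (SerreLib.two_le_depth_of_normal hdim)
  have htne : t ≠ 0 := nonZeroDivisors.ne_zero ht0
  have hR : RegPair R t g := by
    refine ⟨fun m hm => (mul_eq_zero.1 hm).resolve_left htne, fun m n hmn => ?_⟩
    obtain ⟨c, hc⟩ := Ideal.mem_span_singleton.1 (htg m (Ideal.mem_span_singleton.2 ⟨n, hmn⟩))
    exact ⟨c, hc⟩
  have hgne : g ≠ 0 := by
    intro h
    obtain ⟨c, hc⟩ := hR.2 1 0 (by rw [h, smul_zero, zero_smul])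
    exact (IsLocalRing.mem_maximalIdeal _).1 htm (IsUnit.of_mul_eq_one c hc.symm)
  -- the semi-localization
  let M := Algebra.algebraMapSubmonoid B P.primeCompl
  let B' := Localization M
  have hM : M ≤ nonZeroDivisors B := by
    rintro _ ⟨r, hr, rfl⟩
    refine mem_nonZeroDivisors_of_ne_zero fun h => hr ?_
    show r ∈ P
    rw [(map_eq_zero_iff _ hinj).1 h]
    exact zero_mem _
  haveI : IsDomain B' := IsLocalization.isDomain_of_le_nonZeroDivisors B' hM
  haveI : IsIntegrallyClosed B' := isIntegrallyClosed_of_isLocalization B' M hM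
  haveI : Module.Finite R B' := Module.Finite.of_isLocalization A B P.primeCompl
  have hinj' : Function.Injective (algebraMap R B') := by
    refine (injective_iff_map_eq_zero _).2 fun z hz => ?_
    obtain ⟨r, s, rfl⟩ := IsLocalization.exists_mk'_eq P.primeCompl z
    have h0 : algebraMap A B' r = 0 := by
      rw [IsScalarTower.algebraMap_apply A R B', ← IsLocalization.mk'_spec R r s, map_mul, hz, zero_mul]
    rw [IsScalarTower.algebraMap_apply A B B', IsLocalization.map_eq_zero_iff M] at h0
    obtain ⟨m, hm⟩ := h0
    rw [(map_eq_zero_iff _ hinj).1 ((mul_left_mem_nonZeroDivisors_eq_zero_iff (hM m.2)).1 hm), IsLocalization.mk'_zero]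
  haveI : Algebra.FormallyUnramified A R := Algebra.FormallyUnramified.of_isLocalization P.primeCompl
  -- primes
  have hdisj : Disjoint (M : Set B) (q : Set B) := by
    rw [Set.disjoint_left]
    rintro _ ⟨r, hr, rfl⟩ hrq
    exact hr (show r ∈ P by rw [← hqP]; exact hrq)
  let q1 : Ideal B' := q.map (algebraMap B B')
  haveI hq1 : q1.IsPrime := IsLocalization.isPrime_of_isPrime_disjoint M B' q inferInstance hdisj
  have hq1B : q1.comap (algebraMap B B') = q := IsLocalization.comap_map_of_isPrime_disjoint M B' inferInstance hdisj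
  have hq1R : q1.comap (algebraMap R B') = maximalIdeal R := by
    apply (IsLocalization.orderEmbedding P.primeCompl R).injective
    show (q1.comap (algebraMap R B')).comap (algebraMap A R) = (maximalIdeal R).comap (algebraMap A R)
    rw [Ideal.comap_comap, ← IsScalarTower.algebraMap_eq, IsScalarTower.algebraMap_eq A B B', ← Ideal.comap_comap,
      hq1B]
    exact hqP.trans (IsLocalization.AtPrime.under_maximalIdeal R P).symm
  -- unramifiedness of primes over `A` and over `R`
  have hiff : ∀ (Q : Ideal B') [Q.IsPrime], Algebra.IsUnramifiedAt A (Q.comap (algebraMap B B')) ↔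
      Algebra.FormallyUnramified R (Localization.AtPrime Q) := by
    intro Q _
    let e := (IsLocalization.localizationLocalizationAtPrimeIsoLocalization M Q).restrictScalars A
    constructor
    · intro h
      haveI : Algebra.FormallyUnramified A (Localization.AtPrime Q) :=
        Algebra.FormallyUnramified.of_equiv e
      exact Algebra.FormallyUnramified.of_restrictScalars A R _
    · intro h
      haveI : Algebra.FormallyUnramified A (Localization.AtPrime Q) :=
        Algebra.FormallyUnramified.comp A R _
      exact Algebra.FormallyUnramified.of_equiv e.symm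
  haveI : IsLocalHom (algebraMap R S) := ⟨fun r hr => by
    by_contra hn
    exact (IsLocalRing.mem_maximalIdeal _).1 (hmS ▸ Ideal.mem_map_of_mem _ hn) hr⟩
  haveI : Algebra.IsUnramifiedAt R q1 :=
    isUnramifiedAt_of_isPurePair hmS (EtLocalLib.bijective_residueField_completion (A := R)) hp htm hgm htne hgne hR
      B' hinj' q1 hq1R fun Q _ hlt =>
        (hiff Q).1 (hlow _ (by rw [← hq1B]; exact (IsLocalization.orderEmbedding M B').strictMono hlt))
  have h := (hiff q1).2 inferInstance
  have hcg : ∀ (J : Ideal B) [J.IsPrime], J = q → Algebra.IsUnramifiedAt A J → Algebra.IsUnramifiedAt A q := by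
    intro J _ e hJ
    subst e
    exact hJ
  exact hcg _ hq1B h

theorem height_lt_of_minimal_ramified (A : Type u) [CommRing A] [IsDomain A] [IsNoetherianRing A] [IsIntegrallyClosed A]
    (r : ℕ)
    (hpure : ∀ (P : Ideal A) [P.IsPrime], (r : ℕ∞) ≤ P.height → SGA2.IsPurePair
      (AlgebraicGeometry.Spec (CommRingCat.of (AdicCompletion (maximalIdeal (Localization.AtPrime P)) (Localization.AtPrime P))))
      (FEt.puncturedSpec (AdicCompletion (maximalIdeal (Localization.AtPrime P)) (Localization.AtPrime P))))
    (B : Type u) [CommRing B] [IsDomain B] [IsIntegrallyClosed B] [Algebra A B] [Module.Finite A B]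
    (hinj : Function.Injective (algebraMap A B)) (q : Ideal B) [q.IsPrime] (hq : ¬ Algebra.IsUnramifiedAt A q)
    (hmin : ∀ (q' : Ideal B) [q'.IsPrime], q' ≤ q → ¬ Algebra.IsUnramifiedAt A q' → q' = q) :
    q.height < (r : ℕ∞) := by
  by_contra hr
  push Not at hr
  refine hq (isUnramified_of_purity A (q.under A) (hpure _ (hr.trans (PurityLib.height_le_under q))) B hinj q rfl ?_)
  intro q' _ hlt
  by_contra h
  exact hlt.ne (hmin q' hlt.le h)

end Groth.Agent.PurityCodimLib
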