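import Groth.Agent.PurityLib.RegPair
import Groth.Agent.PurePairDesc.Main
import Groth.Prelude.Def_SGA2

/-!
# Finite algebras with a regular pair and covers of an open containing the two principal opens
-/

set_option autoImplicit false
set_option backward.isDefEq.respectTransparency false
set_option linter.style.haveILetI false

universe u

open AlgebraicGeometry CategoryTheory CategoryTheory.Limits TopologicalSpace Opposite IsLocalRing
open Groth.Agent.PurityLib (RegPair)

noncomputable section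

namespace Groth.Agent.PurityCodimLib

theorem rres {X : Scheme.{u}} {W V U : X.Opens} (hUV : U ≤ V) (hVW : V ≤ W) (a : Γ(X, W)) :
    (X.presheaf.map (homOfLE hUV).op).hom ((X.presheaf.map (homOfLE hVW).op).hom a) =
      (X.presheaf.map (homOfLE (hUV.trans hVW)).op).hom a := by
  show ((X.presheaf.map _) ≫ (X.presheaf.map _)).hom a = _
  rw [← Functor.map_comp]
  rfl

/-- Functions on an open of an affine scheme containing `D(t)` and `D(g)`, for a regular pair `t, g`. -/
theorem bijective_res_of_regPair {X : Scheme.{u}} [IsAffine X] {t g : Γ(X, ⊤)}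
    (h : RegPair Γ(X, ⊤) t g) (V : X.Opens) (ht : X.basicOpen t ≤ V) (hg : X.basicOpen g ≤ V) :
    Function.Bijective (X.presheaf.map (homOfLE (le_top : V ≤ ⊤)).op).hom := by
  let r : ∀ {W U : X.Opens}, U ≤ W → Γ(X, W) →+* Γ(X, U) := fun {W U} hle => (X.presheaf.map (homOfLE hle).op).hom
  have hloc : ∀ f : Γ(X, ⊤), IsLocalization.Away f Γ(X, X.basicOpen f) := fun f =>
    (isAffineOpen_top X).isLocalization_basicOpen f
  have halg : ∀ (f : Γ(X, ⊤)) (z : Γ(X, ⊤)), algebraMap Γ(X, ⊤) Γ(X, X.basicOpen f) z = r le_top z := fun _ _ => rfl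
  have hker : ∀ (f z : Γ(X, ⊤)), r (le_top : X.basicOpen f ≤ ⊤) z = 0 → ∃ n : ℕ, f ^ n * z = 0 := by
    intro f z hz
    haveI := hloc f
    rw [← halg, IsLocalization.map_eq_zero_iff (Submonoid.powers f)] at hz
    obtain ⟨⟨_, n, rfl⟩, hn⟩ := hz
    exact ⟨n, hn⟩
  have hreg : ∀ (n : ℕ) (z : Γ(X, ⊤)), t ^ n * z = 0 → z = 0 := fun n z hz => h.smul_pow_eq_zero n hz
  -- a section on the open that dies on `D(t)` is zero
  have hzero : ∀ d : Γ(X, V), r ht d = 0 → d = 0 := by
    intro d hd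
    have hb : ∀ x : V, ∃ f : Γ(X, ⊤), X.basicOpen f ≤ V ∧ (x : X) ∈ X.basicOpen f := fun x =>
      (isAffineOpen_top X).exists_basicOpen_le x trivial
    choose f hfV hxf using hb
    refine X.sheaf.eq_of_locally_eq' (fun x : V => X.basicOpen (f x)) V (fun x => homOfLE (hfV x))
      (fun x hx => Opens.mem_iSup.2 ⟨⟨x, hx⟩, hxf ⟨x, hx⟩⟩) d 0 fun x => ?_
    show r (hfV x) d = r (hfV x) 0
    rw [map_zero]
    haveI := hloc (f x)
    obtain ⟨⟨z, ⟨_, m, rfl⟩⟩, hz⟩ := IsLocalization.surj (Submonoid.powers (f x)) (r (hfV x) d)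
    simp only [halg] at hz
    have h1 : r (le_top : X.basicOpen (f x * t) ≤ ⊤) z = 0 := by
      have e1 : X.basicOpen (f x * t) ≤ X.basicOpen (f x) := by rw [Scheme.basicOpen_mul]; exact inf_le_left
      have e2 : X.basicOpen (f x * t) ≤ X.basicOpen t := by rw [Scheme.basicOpen_mul]; exact inf_le_right
      rw [← rres e1 (le_top : X.basicOpen (f x) ≤ ⊤) z]
      show r e1 (r le_top z) = 0
      rw [← hz, map_mul]
      show r e1 (r (hfV x) d) * _ = 0
      rw [show r e1 (r (hfV x) d) = r e2 (r ht d) from (rres _ _ _).trans (rres _ _ _).symm, hd, map_zero, zero_mul]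
    obtain ⟨k, hk⟩ := hker _ _ h1
    have h2 : f x ^ k * z = 0 := hreg k _ (by rw [← mul_assoc, ← mul_pow, mul_comm t]; exact hk)
    have hu : IsUnit (r (le_top : X.basicOpen (f x) ≤ ⊤) (f x)) := IsLocalization.Away.algebraMap_isUnit (f x)
    have h3 : r (le_top : X.basicOpen (f x) ≤ ⊤) z = 0 := by
      have := congrArg (r (le_top : X.basicOpen (f x) ≤ ⊤)) h2
      rw [map_mul, map_pow, map_zero] at this
      exact (hu.pow k).mul_right_eq_zero.1 this
    rw [h3, map_pow] at hz
    exact (hu.pow m).mul_left_eq_zero.1 hz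
  refine ⟨(injective_iff_map_eq_zero _).2 fun z hz => ?_, fun s => ?_⟩
  · have h1 : r (le_top : X.basicOpen t ≤ ⊤) z = 0 := by
      rw [← rres ht (le_top : V ≤ ⊤) z]
      show r ht _ = 0
      rw [hz, map_zero]
    obtain ⟨n, hn⟩ := hker _ _ h1
    exact hreg n _ hn
  · haveI := hloc t
    haveI := hloc g
    obtain ⟨⟨a, ⟨_, i, rfl⟩⟩, ha⟩ := IsLocalization.surj (Submonoid.powers t) (r ht s)
    obtain ⟨⟨b, ⟨_, j, rfl⟩⟩, hb⟩ := IsLocalization.surj (Submonoid.powers g) (r hg s)
    simp only [halg] at ha hb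
    have e1 : X.basicOpen (t * g) ≤ X.basicOpen t := by rw [Scheme.basicOpen_mul]; exact inf_le_left
    have e2 : X.basicOpen (t * g) ≤ X.basicOpen g := by rw [Scheme.basicOpen_mul]; exact inf_le_right
    have h1 : r (le_top : X.basicOpen (t * g) ≤ ⊤) (t ^ i * b - g ^ j * a) = 0 := by
      have hs : r e1 (r ht s) = r e2 (r hg s) := (rres _ _ _).trans (rres _ _ _).symm
      have ha' := congrArg (r e1) ha
      have hb' := congrArg (r e2) hb
      rw [map_mul] at ha' hb'
      have hr1 : ∀ z, r e1 (r (le_top : X.basicOpen t ≤ ⊤) z) = r le_top z := fun z => rres _ _ z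
      have hr2 : ∀ z, r e2 (r (le_top : X.basicOpen g ≤ ⊤) z) = r le_top z := fun z => rres _ _ z
      rw [hr1, hr1] at ha'
      rw [hr2, hr2, ← hs] at hb'
      rw [map_sub, map_mul, map_mul, ← ha', ← hb']
      ring
    obtain ⟨k, hk⟩ := hker _ _ h1
    have h2 : g ^ k * (t ^ i * b - g ^ j * a) = 0 := hreg k _ (by rw [← mul_assoc, ← mul_pow]; exact hk)
    obtain ⟨c, hc⟩ := h.exists_of_pow i (k + j) (m := a) (n := g ^ k * b) (by
      show g ^ (k + j) * a = t ^ i * (g ^ k * b)
      rw [pow_add]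
      linear_combination -h2)
    refine ⟨c, sub_eq_zero.1 (hzero _ ?_)⟩
    rw [map_sub, sub_eq_zero]
    show r ht (r le_top c) = r ht s
    rw [show r ht (r le_top c) = r (le_top : X.basicOpen t ≤ ⊤) c from rres _ _ _]
    have hu : IsUnit (r (le_top : X.basicOpen t ≤ ⊤) t) := IsLocalization.Away.algebraMap_isUnit t
    refine (hu.pow i).mul_left_inj.1 ?_
    rw [← map_pow, ha, hc]
    show _ = r _ (t ^ i * c)
    rw [map_mul, mul_comm]

variable {S : Type u} [CommRing S]

/-- The structure morphism of an algebra. -/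
def specAlg (S C : Type u) [CommRing S] [CommRing C] [Algebra S C] :
    Spec (CommRingCat.of C) ⟶ Spec (CommRingCat.of S) :=
  Spec.map (CommRingCat.ofHom (algebraMap S C))

theorem bijective_sections {C : Type u} [CommRing C] [Algebra S C] {t g : S}
    (h : RegPair C t g) (U : (Spec (CommRingCat.of S)).Opens)
    (ht : PrimeSpectrum.basicOpen t ≤ U) (hg : PrimeSpectrum.basicOpen g ≤ U) :
    Function.Bijective ((Scheme.ΓSpecIso (CommRingCat.of C)).inv ≫ (specAlg S C ⁻¹ᵁ U).ι.appTop).hom := by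
  let X := Spec (CommRingCat.of C)
  let e := (Scheme.ΓSpecIso (CommRingCat.of C)).inv
  have he : Function.Bijective e.hom := ConcreteCategory.bijective_of_isIso e
  have hreg : RegPair Γ(X, ⊤) (e (algebraMap S C t)) (e (algebraMap S C g)) := by
    refine ⟨fun m hm => ?_, fun m n hmn => ?_⟩
    · obtain ⟨m, rfl⟩ := he.2 m
      change e.hom _ * e.hom m = 0 at hm
      rw [← map_mul] at hm
      rw [show e.hom m = e.hom 0 from congrArg e.hom (h.1 m (by
        rw [Algebra.smul_def]; exact he.1 (hm.trans (map_zero _).symm))), map_zero]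
    · obtain ⟨m, rfl⟩ := he.2 m
      obtain ⟨n, rfl⟩ := he.2 n
      change e.hom _ * e.hom m = e.hom _ * e.hom n at hmn
      rw [← map_mul, ← map_mul] at hmn
      obtain ⟨m', rfl⟩ := h.2 m n (by rw [Algebra.smul_def, Algebra.smul_def]; exact he.1 hmn)
      refine ⟨e.hom m', ?_⟩
      show e.hom _ = e.hom _ * e.hom m'
      rw [← map_mul, Algebra.smul_def]
  have hle : ∀ a : S, PrimeSpectrum.basicOpen a ≤ U →
      X.basicOpen (e (algebraMap S C a)) ≤ (specAlg S C ⁻¹ᵁ U).ι ''ᵁ ⊤ := fun a ha => by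
    rw [Scheme.Opens.ι_image_top, basicOpen_eq_of_affine]
    intro z hz
    exact ha (show (algebraMap S C a : C) ∉ (z : PrimeSpectrum C).asIdeal from hz)
  have hb := bijective_res_of_regPair hreg _ (hle t ht) (hle g hg)
  rw [CommRingCat.hom_comp, RingHom.coe_comp]
  refine Function.Bijective.comp ?_ he
  rw [Scheme.Opens.ι_appTop]
  exact hb

/-- Algebras with a regular pair are isomorphic if their covers are isomorphic over an open containing the two
principal opens. -/
theorem nonempty_algEquiv_of_iso {C D : Type u} [CommRing C] [Algebra S C] [CommRing D] [Algebra S D] {t g : S}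
    (hC : RegPair C t g) (hD : RegPair D t g) (U : (Spec (CommRingCat.of S)).Opens)
    (ht : PrimeSpectrum.basicOpen t ≤ U) (hg : PrimeSpectrum.basicOpen g ≤ U)
    (ψ : (specAlg S D ⁻¹ᵁ U).toScheme ≅ (specAlg S C ⁻¹ᵁ U).toScheme)
    (hψ : ψ.hom ≫ (specAlg S C ⁻¹ᵁ U).ι ≫ specAlg S C = (specAlg S D ⁻¹ᵁ U).ι ≫ specAlg S D) :
    Nonempty (D ≃ₐ[S] C) := by
  let ρC := (Scheme.ΓSpecIso (CommRingCat.of C)).inv ≫ (specAlg S C ⁻¹ᵁ U).ι.appTop
  let ρD := (Scheme.ΓSpecIso (CommRingCat.of D)).inv ≫ (specAlg S D ⁻¹ᵁ U).ι.appTop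
  let rC : C ≃+* _ := RingEquiv.ofBijective ρC.hom (bijective_sections hC U ht hg)
  let rD : D ≃+* _ := RingEquiv.ofBijective ρD.hom (bijective_sections hD U ht hg)
  let m : Γ((specAlg S C ⁻¹ᵁ U).toScheme, ⊤) ≃+* Γ((specAlg S D ⁻¹ᵁ U).toScheme, ⊤) :=
    RingEquiv.ofBijective ψ.hom.appTop.hom (ConcreteCategory.bijective_of_isIso ψ.hom.appTop)
  have key : ∀ a : S, m (rC (algebraMap S C a)) = rD (algebraMap S D a) := by
    intro a
    have e1 : CommRingCat.ofHom (algebraMap S C) ≫ ρC ≫ ψ.hom.appTop =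
        CommRingCat.ofHom (algebraMap S D) ≫ ρD := by
      simp only [ρC, ρD, Category.assoc]
      rw [Scheme.ΓSpecIso_inv_naturality_assoc, Scheme.ΓSpecIso_inv_naturality_assoc,
        ← Scheme.Hom.comp_appTop, ← Scheme.Hom.comp_appTop, ← Scheme.Hom.comp_appTop]
      simp only [Category.assoc]
      exact congrArg (fun z => _ ≫ Scheme.Hom.appTop z) hψ
    exact congr($e1 a)
  exact ⟨(AlgEquiv.ofRingEquiv (f := rC.trans (m.trans rD.symm)) fun a => by
    show rD.symm (m (rC _)) = _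
    rw [key, RingEquiv.symm_apply_apply]).symm⟩

/-- Purity of the punctured spectrum makes a finite algebra with a regular pair, étale off the closed
point, étale. -/
theorem etale_of_isPurePair [IsLocalRing S] (hpure : SGA2.IsPurePair (Spec (CommRingCat.of S)) (FEt.puncturedSpec S))
    {t g : S} (ht : t ∈ maximalIdeal S) (hg : g ∈ maximalIdeal S) (hS : RegPair S t g)
    (C : Type u) [CommRing C] [Algebra S C] [Module.Finite S C] (hC : RegPair C t g)
    (het : ∀ Q : PrimeSpectrum C, Q.asIdeal.comap (algebraMap S C) ≠ maximalIdeal S →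
      ∃ f ∉ Q.asIdeal, Algebra.Etale S (Localization.Away f)) :
    Algebra.Etale S C := by
  let U := FEt.puncturedSpec S
  let fC := specAlg S C
  have hmem : ∀ p : PrimeSpectrum S, p ∈ U ↔ p.asIdeal ≠ maximalIdeal S := fun p => by
    show ¬ p = closedPoint S ↔ _
    rw [PrimeSpectrum.ext_iff]
    rfl
  have hDle : ∀ a ∈ maximalIdeal S, PrimeSpectrum.basicOpen a ≤ U := fun a ha p hp =>
    (hmem p).2 fun h => hp (h.symm ▸ ha)
  haveI : IsFinite fC := (IsFinite.SpecMap_iff _).2 (RingHom.finite_algebraMap.2 inferInstance)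
  haveI : IsFinite (fC ∣_ U) := MorphismProperty.of_isPullback (isPullback_morphismRestrict fC U).flip inferInstance
  haveI : Etale ((fC ∣_ U) ≫ U.ι) := by
    rw [morphismRestrict_ι]
    have hb : ∀ x : (fC ⁻¹ᵁ U : Scheme.{u}), ∃ f : C, Algebra.Etale S (Localization.Away f) ∧
        (x.1 : PrimeSpectrum C).asIdeal ∈ PrimeSpectrum.asIdeal '' (PrimeSpectrum.basicOpen f : Set (PrimeSpectrum C)) := by
      intro x
      obtain ⟨f, hf, hfe⟩ := het x.1 ((hmem _).1 x.2)
      exact ⟨f, hfe, _, hf, rfl⟩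
    choose f hfe hxf using hb
    let O : (fC ⁻¹ᵁ U : Scheme.{u}) → (fC ⁻¹ᵁ U : Scheme.{u}).Opens := fun x =>
      (fC ⁻¹ᵁ U).ι ⁻¹ᵁ (PrimeSpectrum.basicOpen (f x) : (Spec (CommRingCat.of C)).Opens)
    have hO : iSup O = ⊤ := top_le_iff.1 fun x _ => by
      obtain ⟨y, hy, hyx⟩ := hxf x
      refine Opens.mem_iSup.2 ⟨x, ?_⟩
      show (x.1 : PrimeSpectrum C) ∈ PrimeSpectrum.basicOpen (f x)
      rw [← PrimeSpectrum.ext hyx]
      exact hy
    refine (IsZariskiLocalAtSource.iff_of_iSup_eq_top (P := @Etale) O hO).2 fun x => ?_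
    let a := Spec.map (CommRingCat.ofHom (algebraMap C (Localization.Away (f x))))
    haveI : Etale (a ≫ fC) := by
      show Etale (a ≫ Spec.map _)
      rw [← Spec.map_comp]
      haveI := hfe x
      rw [show CommRingCat.ofHom (algebraMap S C) ≫ CommRingCat.ofHom (algebraMap C (Localization.Away (f x))) =
        CommRingCat.ofHom (algebraMap S (Localization.Away (f x))) from by
          rw [← CommRingCat.ofHom_comp, ← IsScalarTower.algebraMap_eq]]
      exact (HasRingHomProperty.Spec_iff (P := @Etale)).2 (RingHom.etale_algebraMap.2 (hfe x))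
    haveI : IsOpenImmersion a := IsOpenImmersion.of_isLocalization (f x)
    have hrange : Set.range ((O x).ι ≫ (fC ⁻¹ᵁ U).ι) ⊆ Set.range a := by
      rintro _ ⟨z, rfl⟩
      rw [show Set.range a = (PrimeSpectrum.basicOpen (f x) : Set (PrimeSpectrum C)) from
        PrimeSpectrum.localization_away_comap_range _ (f x)]
      exact z.2
    rw [← Category.assoc, ← IsOpenImmersion.lift_fac a _ hrange, Category.assoc]
    haveI : IsOpenImmersion (IsOpenImmersion.lift a _ hrange) := by
      haveI : IsOpenImmersion (IsOpenImmersion.lift a _ hrange ≫ a) := by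
        rw [IsOpenImmersion.lift_fac]; infer_instance
      exact IsOpenImmersion.of_comp _ a
    infer_instance
  haveI : Etale (fC ∣_ U) := Etale.of_comp (fC ∣_ U) U.ι
  -- essential surjectivity of restriction to the punctured spectrum
  haveI : (FEt.restrict U.ι).IsEquivalence := by
    let X := Spec (CommRingCat.of S)
    haveI : (FEt.restrict (X.homOfLE (inf_le_left : (⊤ : X.Opens) ⊓ U ≤ ⊤))).IsEquivalence := hpure ⊤
    haveI : IsIso (⊤ : X.Opens).ι := inferInstanceAs (IsIso X.topIso.hom)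
    haveI : (FEt.restrict (⊤ : X.Opens).ι).IsEquivalence := PurePairDesc.isEquivalence_restrict_of_isIso _
    have hi := PropPi1.restrictCompIso (X.homOfLE (inf_le_left : (⊤ : X.Opens) ⊓ U ≤ ⊤)) (⊤ : X.Opens).ι
    rw [Scheme.homOfLE_ι] at hi
    exact (PurePairDesc.isEquivalence_restrict_iff ((⊤ : X.Opens) ⊓ U).ι U (by simp)).1
      (Functor.isEquivalence_of_iso hi.symm)
  let E : FEt.Cat (U : Scheme.{u}) := MorphismProperty.Over.mk ⊤ (fC ∣_ U) ⟨inferInstance, inferInstance⟩
  let Y := (FEt.restrict U.ι).objPreimage E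
  let φ := (FEt.restrict U.ι).objObjPreimageIso E
  let y : Y.left ⟶ Spec (CommRingCat.of S) := Y.hom
  haveI : IsFinite y := Y.prop.1
  haveI : Etale y := Y.prop.2
  haveI : IsAffine Y.left := isAffine_of_isAffineHom y
  let φD := Spec.preimage (Y.left.isoSpec.inv ≫ y)
  have hφ : Spec.map φD = Y.left.isoSpec.inv ≫ y := Spec.map_preimage _
  let D : Type u := Γ(Y.left, ⊤)
  letI : Algebra S D := φD.hom.toAlgebra
  haveI : Algebra.Etale S D :=
    RingHom.etale_algebraMap.1 ((HasRingHomProperty.Spec_iff (P := @Etale) (φ := φD)).1 (hφ ▸ inferInstance))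
  let fD := specAlg S D
  have hfD : fD = Y.left.isoSpec.inv ≫ y := hφ
  let hp := (isPullback_morphismRestrict fD U).flip
  let b : (fD ⁻¹ᵁ U : Scheme.{u}) ≅ pullback y U.ι :=
    hp.isoPullback ≪≫ asIso (pullback.map fD U.ι y U.ι Y.left.isoSpec.inv (𝟙 _) (𝟙 _) (by simp [hfD]) (by simp))
  let ψ : (fD ⁻¹ᵁ U : Scheme.{u}) ≅ (fC ⁻¹ᵁ U : Scheme.{u}) :=
    b ≪≫ (MorphismProperty.Over.forget _ _ _ ⋙ Over.forget _).mapIso φ
  have hψ : ψ.hom ≫ (fC ⁻¹ᵁ U).ι ≫ fC = (fD ⁻¹ᵁ U).ι ≫ fD := by
    rw [← morphismRestrict_ι fC U, ← morphismRestrict_ι fD U]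
    have h1 : φ.hom.left ≫ (fC ∣_ U) = pullback.snd y U.ι := MorphismProperty.Over.w φ.hom
    have h2 : b.hom ≫ pullback.snd y U.ι = fD ∣_ U := by
      simp only [b, Iso.trans_hom, asIso_hom, Category.assoc, pullback.lift_snd, Category.comp_id]
      exact hp.isoPullback_hom_snd
    show (b.hom ≫ φ.hom.left) ≫ (fC ∣_ U) ≫ U.ι = (fD ∣_ U) ≫ U.ι
    rw [← h2, ← h1]
    simp only [Category.assoc]
  obtain ⟨e⟩ := nonempty_algEquiv_of_iso (t := t) (g := g) hC (PurityLib.regPair_of_flat hS) U (hDle t ht) (hDle g hg) ψ hψ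
  exact Algebra.Etale.of_equiv e

end Groth.Agent.PurityCodimLib
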